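import Cfsg.Agent.Lib.Helper93.G23D.T5Chk0
import Cfsg.Agent.Lib.Helper93.G23D.T5Chk1
import Cfsg.Agent.Lib.Helper93.G23D.T5Chk2
import Cfsg.Agent.Lib.Helper93.G23D.T5Chk3
import Cfsg.Agent.Lib.Helper93.G23D.T5Rels

set_option autoImplicit false
set_option maxRecDepth 1000000
set_option maxHeartbeats 0
set_option Elab.async false

namespace Cfsg.Agent.Lib.Helper93.G23D.T5

open Cfsg.Agent.Lib.Helper89.CosetCert Cfsg.Agent.Lib.Helper89.SafePres

theorem defs_ok : cert.defsOK = true := by decide +kernel

theorem subs_ok : cert.subsOK = true := by decide +kernel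

theorem fin_ok : cert.finOK = true := by decide +kernel

theorem steps_ok : cert.checkSteps (cert.N - 1 + cert.j0) cert.steps = true := by
  show cert.checkSteps (cert.N - 1 + cert.j0) ([steps0, steps1, steps2, steps3, steps4, steps5, steps6, steps7, steps8, steps9, steps10, steps11, steps12, steps13, steps14, steps15, steps16, steps17, steps18, steps19, steps20, steps21, steps22, steps23, steps24, steps25, steps26, steps27, steps28, steps29, steps30, steps31, steps32, steps33, steps34, steps35, steps36, steps37, steps38, steps39, steps40, steps41, steps42, steps43, steps44, steps45, steps46, steps47, steps48, steps49, steps50, steps51, steps52, steps53, steps54, steps55, steps56, steps57, steps58, steps59, steps60, steps61, steps62, steps63, steps64, steps65, steps66, steps67, steps68, steps69, steps70, steps71, steps72, steps73, steps74, steps75].flatten) = true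
  rw [Cert.checkSteps_flatten]
  rw [Cert.checkChunks, chk0, Cert.checkChunks, chk1, Cert.checkChunks, chk2, Cert.checkChunks, chk3, Cert.checkChunks, chk4, Cert.checkChunks, chk5, Cert.checkChunks, chk6, Cert.checkChunks, chk7, Cert.checkChunks, chk8, Cert.checkChunks, chk9, Cert.checkChunks, chk10, Cert.checkChunks, chk11, Cert.checkChunks, chk12, Cert.checkChunks, chk13, Cert.checkChunks, chk14, Cert.checkChunks, chk15, Cert.checkChunks, chk16, Cert.checkChunks, chk17, Cert.checkChunks, chk18, Cert.checkChunks, chk19, Cert.checkChunks, chk20, Cert.checkChunks, chk21, Cert.checkChunks, chk22, Cert.checkChunks, chk23, Cert.checkChunks, chk24, Cert.checkChunks, chk25, Cert.checkChunks, chk26, Cert.checkChunks, chk27, Cert.checkChunks, chk28, Cert.checkChunks, chk29, Cert.checkChunks, chk30, Cert.checkChunks, chk31, Cert.checkChunks, chk32, Cert.checkChunks, chk33, Cert.checkChunks, chk34, Cert.checkChunks, chk35, Cert.checkChunks, chk36, Cert.checkChunks, chk37, Cert.checkChunks, chk38, Cert.checkChunks, chk39, Cert.checkChunks, chk40, Cert.checkChunks, chk41, Cert.checkChunks, chk42,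 Cert.checkChunks, chk43, Cert.checkChunks, chk44, Cert.checkChunks, chk45, Cert.checkChunks, chk46, Cert.checkChunks, chk47, Cert.checkChunks, chk48, Cert.checkChunks, chk49, Cert.checkChunks, chk50, Cert.checkChunks, chk51, Cert.checkChunks, chk52, Cert.checkChunks, chk53, Cert.checkChunks, chk54, Cert.checkChunks, chk55, Cert.checkChunks, chk56, Cert.checkChunks, chk57, Cert.checkChunks, chk58, Cert.checkChunks, chk59, Cert.checkChunks, chk60, Cert.checkChunks, chk61, Cert.checkChunks, chk62, Cert.checkChunks, chk63, Cert.checkChunks, chk64, Cert.checkChunks, chk65, Cert.checkChunks, chk66, Cert.checkChunks, chk67, Cert.checkChunks, chk68, Cert.checkChunks, chk69, Cert.checkChunks, chk70, Cert.checkChunks, chk71, Cert.checkChunks, chk72, Cert.checkChunks, chk73, Cert.checkChunks, chk74, Cert.checkChunks, chk75, Cert.checkChunks]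
  rfl

theorem cert_ok : cert.check = true := by
  have h1 : decide (0 < cert.N) = true := by decide +kernel
  unfold Cert.check
  rw [h1, defs_ok, subs_ok, steps_ok, fin_ok]
  rfl

end Cfsg.Agent.Lib.Helper93.G23D.T5
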