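import Cfsg.Agent.Lib.Helper89.SafePres

set_option autoImplicit false
set_option maxRecDepth 1000000
set_option maxHeartbeats 0
set_option Elab.async false

namespace Cfsg.Agent.Lib.Helper93.G23D.T4

open Cfsg.Agent.Lib.Helper89.CosetCert Cfsg.Agent.Lib.Helper89.SafePres

def factB : ℕ := 0xb000100000a0001000109000100010800010001070001000106000100010500010001040001000103000100010200010001010001000100000100010b000000010a000000000900000000080000000007000000000600000000050000000004000000000300000000020000000001000000000000000001020001000107000100010900010001050001000100000100000a00010000080000000006000000000400000000020000000000000000010a0000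

def finB : ℕ := 0x1000100010001000100010001000100010001000100010000000000000000000000000000000000000000

def pw : List (ℕ × ℕ) := [(2, 0), (2, 1), (2, 2), (2, 3), (2, 4), (2, 5)]

def srels0 : List SRel := [
  ⟨[10], 0, 2, 1, false⟩,
  ⟨[10, 6], 1, 4, 1, false⟩,
  ⟨[10, 8], 1, 3, 1, false⟩]

def srels : List SRel := [srels0].flatten

def rels : List Word := [
  [0, 0],
  [2, 2],
  [4, 4],
  [6, 6],
  [8, 8],
  [10, 10],
  [10, 0, 11, 5],
  [10, 6, 2, 7, 11, 9],
  [10, 8, 2, 9, 11, 7]]

def steps0 : List ℕ := [
  234187249880662034,
  7427640235982497696831242259,
  21045037336303303198986207251,
  1616345137107005146498028370202119372820,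
  1786486320569950258308322463264820690965,
  850705917328343008098218898394663878676,
  432345770923917312,
  468374499223404545,
  504403502400798722,
  540432230700285955,
  576461233877680132,
  612489962177167365,
  648518965354561542,
  684547693654048775,
  720576696831442952,
  756605425130930185,
  792633603674603530,
  828663156607811595,
  864692159785205760,
  900720888084692993,
  936750303578947586,
  972779031878434819,
  1008807416580538372,
  1044836282318979077,
  1080865285496373254,
  1116894151234813959,
  1152922742095347720,
  1188951607833788425,
  1224979992535891978,
  1261007896201658379]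

def steps : List ℕ := [steps0].flatten

def roots : List ℕ := [0, 1]

def cert : Cert := ⟨6, 5, 2, factBig factB, rels, steps, 2, roots, numBig finB⟩

end Cfsg.Agent.Lib.Helper93.G23D.T4
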